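import Mathlib
set_option linter.style.haveILetI false

/-!
Subcomplexes of a complex of modules and composites of maps which are zero on cohomology.
-/

open CategoryTheory CategoryTheory.Limits

universe w u

namespace Groth.Agent.H23Ghost

variable {A : Type u} [CommRing A]

section QI

variable {ι : Type*} {c : ComplexShape ι} {K L : HomologicalComplex (ModuleCat.{u} A) c} (φ : K ⟶ L)

/-- The free module on a module, mapping onto it. -/
noncomputable def freeCover (M : ModuleCat.{u} A) : ModuleCat.of A (M →₀ A) ⟶ M :=
  ModuleCat.ofHom (Finsupp.linearCombination A (fun m : M => m))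

lemma freeCover_single {M : ModuleCat.{u} A} (m : M) : freeCover M (Finsupp.single m 1) = m := by
  show Finsupp.linearCombination A (fun m : M => m) (Finsupp.single m 1) = m
  rw [Finsupp.linearCombination_single, one_smul]

instance epi_freeCover (M : ModuleCat.{u} A) : Epi (freeCover M) :=
  (ModuleCat.epi_iff_surjective _).2 fun m => ⟨_, freeCover_single m⟩

/-- Elementwise criterion for a quasi-isomorphism of complexes of modules. -/
theorem quasiIso_of_elementwise
    (hmono : ∀ (i : ι) (x : K.X i), K.d i (c.next i) x = 0 →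
      ∀ y : L.X (c.prev i), φ.f i x = L.d (c.prev i) i y →
      ∃ w : K.X (c.prev i), K.d (c.prev i) i w = x)
    (hepi : ∀ (i : ι) (y : L.X i), L.d i (c.next i) y = 0 →
      ∃ (x : K.X i) (v : L.X (c.prev i)), K.d i (c.next i) x = 0 ∧
        y = φ.f i x + L.d (c.prev i) i v) : QuasiIso φ := by
  refine (quasiIso_iff φ).2 fun i => ?_
  rw [quasiIsoAt_iff_isIso_homologyMap]
  have : Mono (HomologicalComplex.homologyMap φ i) := by
    rw [HomologicalComplex.mono_homologyMap_iff_up_to_refinements φ _ i _ rfl rfl]
    intro T x hx y hy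
    have h : ∀ a : T, ∃ w, K.d (c.prev i) i w = x a := fun a =>
      hmono i (x a) (ConcreteCategory.congr_hom hx a) (y a) (ConcreteCategory.congr_hom hy a)
    choose w hw using h
    refine ⟨_, freeCover T, inferInstance, ModuleCat.ofHom (Finsupp.linearCombination A w), ?_⟩
    refine ModuleCat.hom_ext (Finsupp.lhom_ext fun a r => ?_)
    show x (Finsupp.linearCombination A (fun m : T => m) (Finsupp.single a r)) =
      K.d (c.prev i) i (Finsupp.linearCombination A w (Finsupp.single a r))
    rw [Finsupp.linearCombination_single, Finsupp.linearCombination_single, map_smul, map_smul, hw]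
  have : Epi (HomologicalComplex.homologyMap φ i) := by
    rw [HomologicalComplex.epi_homologyMap_iff_up_to_refinements φ _ i _ rfl rfl]
    intro T y hy
    have h : ∀ a : T, ∃ (x : K.X i) (v : L.X (c.prev i)), K.d i (c.next i) x = 0 ∧
        y a = φ.f i x + L.d (c.prev i) i v := fun a => hepi i (y a) (ConcreteCategory.congr_hom hy a)
    choose x v hx hxv using h
    refine ⟨_, freeCover T, inferInstance, ModuleCat.ofHom (Finsupp.linearCombination A x), ?_,
      ModuleCat.ofHom (Finsupp.linearCombination A v), ?_⟩
    · refine ModuleCat.hom_ext (Finsupp.lhom_ext fun a r => ?_)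
      show K.d i (c.next i) (Finsupp.linearCombination A x (Finsupp.single a r)) = 0
      rw [Finsupp.linearCombination_single, map_smul, hx, smul_zero]
    · refine ModuleCat.hom_ext (Finsupp.lhom_ext fun a r => ?_)
      show y (Finsupp.linearCombination A (fun m : T => m) (Finsupp.single a r)) =
        φ.f i (Finsupp.linearCombination A x (Finsupp.single a r)) +
          L.d (c.prev i) i (Finsupp.linearCombination A v (Finsupp.single a r))
      rw [Finsupp.linearCombination_single, Finsupp.linearCombination_single,
        Finsupp.linearCombination_single, map_smul, map_smul, map_smul, hxv, smul_add]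
  exact isIso_of_mono_of_epi _

end QI

variable (K : CochainComplex (ModuleCat.{u} A) ℤ)

/-- A subcomplex of a complex of modules. -/
structure SubCx where
  /-- the submodules -/
  P : ∀ q : ℤ, Submodule A (K.X q)
  stable : ∀ (i j : ℤ), ∀ x ∈ P i, (K.d i j).hom x ∈ P j

variable {K}

namespace SubCx

/-- The complex underlying a subcomplex. -/
noncomputable def cx (S : SubCx K) : CochainComplex (ModuleCat.{u} A) ℤ where
  X q := ModuleCat.of A (S.P q)
  d i j := ModuleCat.ofHom ((K.d i j).hom.restrict (S.stable i j))
  shape i j h := by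
    refine ModuleCat.hom_ext (LinearMap.ext fun x => Subtype.ext ?_)
    show (K.d i j).hom x.1 = 0
    rw [K.shape i j h]
    rfl
  d_comp_d' i j k _ _ := by
    refine ModuleCat.hom_ext (LinearMap.ext fun x => Subtype.ext ?_)
    show (K.d j k).hom ((K.d i j).hom x.1) = 0
    exact ConcreteCategory.congr_hom (K.d_comp_d i j k) x.1

/-- The inclusion of subcomplexes. -/
noncomputable def incl {S T : SubCx K} (h : ∀ q, S.P q ≤ T.P q) : S.cx ⟶ T.cx where
  f q := ModuleCat.ofHom (Submodule.inclusion (h q))
  comm' _ _ _ := ModuleCat.hom_ext (LinearMap.ext fun _ => Subtype.ext rfl)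

lemma incl_comp {S T U : SubCx K} (h : ∀ q, S.P q ≤ T.P q) (h' : ∀ q, T.P q ≤ U.P q) :
    incl h ≫ incl h' = incl (fun q => (h q).trans (h' q)) := by
  refine HomologicalComplex.hom_ext _ _ fun q => ModuleCat.hom_ext (LinearMap.ext fun x => ?_)
  exact Subtype.ext rfl

/-- The canonical truncation `τ≤q`. -/
noncomputable def tau (S : SubCx K) (q : ℤ) : SubCx K where
  P i := if i < q then S.P i
    else if i = q then S.P i ⊓ LinearMap.ker (K.d i (i + 1)).hom else ⊥
  stable i j x hx := by
    by_cases hij : i + 1 = j
    · subst hij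
      split_ifs at hx with h1 h2
      · split_ifs with h3 h4
        · exact S.stable _ _ x hx
        · exact ⟨S.stable _ _ x hx, ConcreteCategory.congr_hom (K.d_comp_d i (i + 1) _) x⟩
        · omega
      · have h0 : (K.d i (i + 1)).hom x = 0 := hx.2
        rw [h0]
        exact zero_mem _
      · rw [Submodule.mem_bot] at hx
        rw [hx, map_zero]
        exact zero_mem _
    · rw [K.shape i j (by simpa using hij)]
      exact zero_mem _

/-- The variant of `τ≤(q-1)` containing the boundaries in degree `q`. -/
noncomputable def tau' (S : SubCx K) (q : ℤ) : SubCx K where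
  P i := if i < q then S.P i
    else if i = q then (S.P (q - 1)).map (K.d (q - 1) i).hom else ⊥
  stable i j x hx := by
    by_cases hij : i + 1 = j
    · subst hij
      split_ifs at hx with h1 h2
      · split_ifs with h3 h4
        · exact S.stable _ _ x hx
        · have h5 : q - 1 = i := by omega
          subst h5
          exact ⟨x, hx, rfl⟩
        · omega
      · obtain ⟨w, hw, rfl⟩ := hx
        have h0 : (K.d i (i + 1)).hom ((K.d (q - 1) i).hom w) = 0 :=
          ConcreteCategory.congr_hom (K.d_comp_d (q - 1) i (i + 1)) w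
        rw [h0]
        exact zero_mem _
      · rw [Submodule.mem_bot] at hx
        rw [hx, map_zero]
        exact zero_mem _
    · rw [K.shape i j (by simpa using hij)]
      exact zero_mem _

lemma tau_le (S : SubCx K) (q i : ℤ) : (S.tau q).P i ≤ S.P i := by
  show (if i < q then _ else _) ≤ _
  split_ifs
  · exact le_rfl
  · exact inf_le_left
  · exact bot_le

lemma tau'_le (S : SubCx K) (q i : ℤ) : (S.tau' q).P i ≤ S.P i := by
  show (if i < q then _ else _) ≤ _
  split_ifs with h1 h2
  · exact le_rfl
  · rintro _ ⟨w, hw, rfl⟩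
    exact S.stable _ _ w hw
  · exact bot_le

lemma tau_pred_le (S : SubCx K) (q i : ℤ) : (S.tau (q - 1)).P i ≤ (S.tau' q).P i := by
  show (if i < q - 1 then _ else _) ≤ (if i < q then _ else _)
  split_ifs <;> first
    | exact le_rfl
    | exact inf_le_left
    | exact bot_le
    | omega

lemma ghost_le {S T : SubCx K} (hle : ∀ i, S.P i ≤ T.P i)
    (hg : ∀ i, ∀ x ∈ S.P i, (K.d i (i + 1)).hom x = 0 →
      x ∈ (T.P (i - 1)).map (K.d (i - 1) i).hom) (q i : ℤ) :
    (S.tau q).P i ≤ (T.tau' q).P i := by
  show (if i < q then _ else _) ≤ (if i < q then _ else _)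
  split_ifs with h1 h2
  · exact hle i
  · subst h2
    exact fun x hx => hg i x hx.1 hx.2
  · exact bot_le

lemma mem_tau_of_lt (S : SubCx K) {q i : ℤ} (h : i < q) {x : K.X i} (hx : x ∈ S.P i) :
    x ∈ (S.tau q).P i := by
  show x ∈ (if i < q then _ else _)
  rw [if_pos h]
  exact hx

theorem quasiIso_tau_pred (S : SubCx K) (q : ℤ) :
    QuasiIso (incl (S.tau_pred_le q)) := by
  apply quasiIso_of_elementwise
  · intro i x _ y hy
    have hy' : x.1 = (K.d _ i).hom y.1 := congrArg Subtype.val hy
    by_cases hi : i ≤ q - 1
    · have hp : (ComplexShape.up ℤ).prev i = i - 1 := CochainComplex.prev ℤ i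
      have hy2 : y.1 ∈ S.P ((ComplexShape.up ℤ).prev i) := tau'_le S q _ y.2
      refine ⟨⟨y.1, mem_tau_of_lt S (by omega) hy2⟩, ?_⟩
      exact Subtype.ext hy'.symm
    · refine ⟨0, ?_⟩
      have hx : x.1 ∈ (if i < q - 1 then S.P i
        else if i = q - 1 then S.P i ⊓ LinearMap.ker (K.d i (i + 1)).hom else ⊥) := x.2
      rw [if_neg (by omega), if_neg (by omega), Submodule.mem_bot] at hx
      rw [map_zero]
      exact Subtype.ext hx.symm
  · intro i y hy
    have hn : (ComplexShape.up ℤ).next i = i + 1 := CochainComplex.next ℤ i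
    have hp : (ComplexShape.up ℤ).prev i = i - 1 := CochainComplex.prev ℤ i
    have hy' : (K.d i ((ComplexShape.up ℤ).next i)).hom y.1 = 0 := congrArg Subtype.val hy
    rw [hn] at hy'
    by_cases hi : i ≤ q - 1
    · have hmem : y.1 ∈ (S.tau (q - 1)).P i := by
        show y.1 ∈ (if i < q - 1 then _ else _)
        split_ifs with h1 h2
        · exact tau'_le S q _ y.2
        · exact ⟨tau'_le S q _ y.2, hy'⟩
        · omega
      refine ⟨⟨y.1, hmem⟩, 0, Subtype.ext ?_, ?_⟩
      · show (K.d i ((ComplexShape.up ℤ).next i)).hom y.1 = 0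
        rw [hn]
        exact hy'
      · rw [map_zero, add_zero]
        exact Subtype.ext rfl
    · have hyP : y.1 ∈ (if i < q then S.P i
        else if i = q then (S.P (q - 1)).map (K.d (q - 1) i).hom else ⊥) := y.2
      rw [if_neg (by omega)] at hyP
      by_cases hiq : i = q
      · rw [if_pos hiq] at hyP
        obtain ⟨w, hw, hwy⟩ := hyP
        subst hiq
        have key : ∀ (p : ℤ) (_ : p = i - 1),
            ∃ v : (S.tau' i).P p, (K.d p i).hom v.1 = y.1 := by
          rintro p rfl
          refine ⟨⟨w, ?_⟩, hwy⟩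
          show w ∈ (if i - 1 < i then _ else _)
          rw [if_pos (by omega)]
          exact hw
        obtain ⟨v, hv⟩ := key _ hp
        refine ⟨0, v, map_zero _, ?_⟩
        rw [map_zero, zero_add]
        exact Subtype.ext hv.symm
      · rw [if_neg hiq, Submodule.mem_bot] at hyP
        refine ⟨0, 0, map_zero _, ?_⟩
        rw [map_zero, map_zero, add_zero]
        exact Subtype.ext hyP

end SubCx

open SubCx

theorem Q_map_eq_zero_of_ghosts [HasDerivedCategory.{w} (ModuleCat.{u} A)]
    (C : ℕ → SubCx K) (hC : ∀ j k, j ≤ k → ∀ i, (C k).P i ≤ (C j).P i) (c : ℕ)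
    (hg : ∀ j i, ∀ x ∈ (C (j + c)).P i, (K.d i (i + 1)).hom x = 0 →
      x ∈ ((C j).P (i - 1)).map (K.d (i - 1) i).hom)
    (a b : ℤ) (hK : ∀ q : ℤ, q < a ∨ b < q → Limits.IsZero (K.X q)) :
    ∃ n : ℕ, ∀ m : ℕ,
      DerivedCategory.Q.map (incl (hC m (n + m) (Nat.le_add_left m n))) = 0 := by
  have hsub : ∀ q, (q < a ∨ b < q) → ∀ x : K.X q, x = 0 := fun q hq x =>
    @Subsingleton.elim _ (ModuleCat.subsingleton_of_isZero (hK q hq)) x 0
  have key : ∀ (k : ℕ) (q : ℤ), q < a + k → ∀ j : ℕ,
      DerivedCategory.Q.map (incl (fun i => ((C (j + k * c)).tau_le q i).trans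
        (hC j (j + k * c) (Nat.le_add_right _ _) i))) = 0 := by
    intro k
    induction k with
    | zero =>
      intro q hq j
      have h0 : incl (fun i => ((C (j + 0 * c)).tau_le q i).trans
          (hC j (j + 0 * c) (Nat.le_add_right _ _) i)) = 0 := by
        refine HomologicalComplex.hom_ext _ _ fun i =>
          ModuleCat.hom_ext (LinearMap.ext fun x => Subtype.ext ?_)
        show x.1 = 0
        by_cases hi : i ≤ q
        · exact hsub i (Or.inl (by omega)) _
        · have hx : x.1 ∈ (if i < q then (C (j + 0 * c)).P i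
            else if i = q then (C (j + 0 * c)).P i ⊓ LinearMap.ker (K.d i (i + 1)).hom else ⊥) := x.2
          rw [if_neg (by omega), if_neg (by omega), Submodule.mem_bot] at hx
          exact hx
      rw [h0, Functor.map_zero]
    | succ k ih =>
      intro q hq j
      have he : j + (k + 1) * c = (j + k * c) + c := by ring
      have hg' : ∀ i, ∀ x ∈ (C (j + (k + 1) * c)).P i, (K.d i (i + 1)).hom x = 0 →
          x ∈ ((C (j + k * c)).P (i - 1)).map (K.d (i - 1) i).hom := by
        rw [he]
        exact hg (j + k * c)
      have hle : ∀ i, (C (j + (k + 1) * c)).P i ≤ (C (j + k * c)).P i :=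
        hC _ _ (by rw [he]; exact Nat.le_add_right _ _)
      have h1 := ih (q - 1) (by omega) j
      have hqi := SubCx.quasiIso_tau_pred (C (j + k * c)) q
      have h2 : DerivedCategory.Q.map (incl (fun i => ((C (j + k * c)).tau'_le q i).trans
          (hC j (j + k * c) (Nat.le_add_right _ _) i))) = 0 := by
        rw [← cancel_epi (DerivedCategory.Q.map (incl ((C (j + k * c)).tau_pred_le q))),
          ← Functor.map_comp, incl_comp, comp_zero]
        exact h1
      rw [← incl_comp (ghost_le hle hg' q) (fun i => ((C (j + k * c)).tau'_le q i).trans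
          (hC j (j + k * c) (Nat.le_add_right _ _) i)), Functor.map_comp, h2, comp_zero]
  refine ⟨(b + 1 - a).toNat * c, fun m => ?_⟩
  have h1 := key (b + 1 - a).toNat b (by omega) m
  have hle : ∀ i, (C ((b + 1 - a).toNat * c + m)).P i ≤
      ((C (m + (b + 1 - a).toNat * c)).tau b).P i := by
    intro i x hx
    rw [Nat.add_comm] at hx
    show x ∈ (if i < b then _ else _)
    split_ifs with h1 h2
    · exact hx
    · exact ⟨hx, hsub (i + 1) (Or.inr (by omega)) _⟩
    · rw [hsub i (Or.inr (by omega)) x]
      exact zero_mem _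
  have h2 := incl_comp hle (fun i => ((C (m + (b + 1 - a).toNat * c)).tau_le b i).trans
        (hC m (m + (b + 1 - a).toNat * c) (Nat.le_add_right _ _) i))
  rw [← h2, Functor.map_comp, h1, comp_zero]

end Groth.Agent.H23Ghost
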