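import Mathlib
import Groth.Agent.H23Ghost.Sub
set_option linter.style.haveILetI false

/-!
If an ideal `J` kills the cohomology of a bounded complex `K` of projective modules then
`J^(n+m) ⊗ K → J^m ⊗ K` vanishes in the derived category.
-/

open CategoryTheory CategoryTheory.Limits MonoidalCategory
open scoped TensorProduct

universe w u

namespace Groth.Agent.H23Ghost

variable {A : Type u} [CommRing A] (K : CochainComplex (ModuleCat.{u} A) ℤ)

/-- The subcomplex `J^m K`. -/
noncomputable def powSub (J : Ideal A) (m : ℕ) : SubCx K where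
  P q := (J ^ m) • (⊤ : Submodule A (K.X q))
  stable i j x hx := by
    have h : ((J ^ m) • (⊤ : Submodule A (K.X i))).map (K.d i j).hom ≤
        (J ^ m) • (⊤ : Submodule A (K.X j)) := by
      rw [Submodule.map_smul'']
      exact Submodule.smul_mono le_rfl le_top
    exact h ⟨x, hx, rfl⟩

/-- The multiplication `I ⊗ M → I • M`. -/
noncomputable def mulMap (I : Ideal A) (M : Type u) [AddCommGroup M] [Module A M] :
    I ⊗[A] M →ₗ[A] (I • (⊤ : Submodule A M) : Submodule A M) :=
  LinearMap.codRestrict _ ((TensorProduct.lid A M).toLinearMap.comp (I.subtype.rTensor M)) (by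
    intro t
    induction t using TensorProduct.induction_on with
    | zero => simp only [map_zero, zero_mem]
    | tmul x y => exact Submodule.smul_mem_smul x.2 Submodule.mem_top
    | add x y hx hy => simp only [map_add]; exact add_mem hx hy)

lemma mulMap_bijective (I : Ideal A) (M : Type u) [AddCommGroup M] [Module A M] [Module.Flat A M] :
    Function.Bijective (mulMap I M) := by
  refine ⟨fun x y h => ?_, fun z => ?_⟩
  · have h1 := (TensorProduct.lid A M).injective (congrArg Subtype.val h)
    exact Module.Flat.rTensor_preserves_injective_linearMap _ (Submodule.subtype_injective I) h1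
  · obtain ⟨z, hz⟩ := z
    have h : ∃ t, (mulMap I M t).1 = z := by
      refine Submodule.smul_induction_on hz (fun r hr y _ => ⟨⟨r, hr⟩ ⊗ₜ[A] y, rfl⟩) ?_
      rintro _ _ ⟨s, rfl⟩ ⟨t, rfl⟩
      exact ⟨s + t, by rw [map_add]; rfl⟩
    obtain ⟨t, ht⟩ := h
    exact ⟨t, Subtype.ext ht⟩

/-- `J^m ⊗ K`. -/
noncomputable abbrev tens (J : Ideal A) (m : ℕ) : CochainComplex (ModuleCat.{u} A) ℤ :=
  (((curriedTensor (ModuleCat.{u} A)).obj (ModuleCat.of A ↥(J ^ m))).mapHomologicalComplex
    (ComplexShape.up ℤ)).obj K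

/-- `J^m ⊗ K → J^m K`. -/
noncomputable def tensHom (J : Ideal A) (m : ℕ) : tens K J m ⟶ (powSub K J m).cx where
  f q := ModuleCat.ofHom (mulMap (J ^ m) (K.X q))
  comm' i j _ := by
    refine ModuleCat.hom_ext (TensorProduct.ext' fun x y => Subtype.ext ?_)
    show (K.d i j).hom (x.1 • y) = x.1 • (K.d i j).hom y
    exact map_smul _ _ _

theorem main (A : Type u) [CommRing A] [IsNoetherianRing A]
    [HasDerivedCategory.{w} (ModuleCat.{u} A)]
    (K : CochainComplex (ModuleCat.{u} A) ℤ) (a b : ℤ)
    (hK : ∀ q : ℤ, q < a ∨ b < q → Limits.IsZero (K.X q))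
    [∀ q : ℤ, Module.Finite A (K.X q)] (hproj : ∀ q : ℤ, Module.Projective A (K.X q))
    (J : Ideal A) (hJ : ∀ q : ℤ, ∀ x ∈ J, ∀ c : ↑(K.homology q), x • c = 0) :
    ∃ n : ℕ, ∀ m : ℕ, 0 < m →
      DerivedCategory.Q.map
        ((NatTrans.mapHomologicalComplex
          ((curriedTensor (ModuleCat.{u} A)).map
            (ModuleCat.ofHom (Submodule.inclusion (p := J ^ (n + m)) (p' := J ^ m)
              (Ideal.pow_le_pow_right (Nat.le_add_left m n)))))
          (ComplexShape.up ℤ)).app K) = 0 := by
  have hbd : ∀ i : ℤ, J • LinearMap.ker (K.d i (i + 1)).hom ≤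
      LinearMap.range (K.d (i - 1) i).hom := by
    intro i
    rw [Submodule.smul_le]
    intro x hx z hz
    let S := K.sc' (i - 1) i (i + 1)
    let e : K.homology i ≅ S.homology :=
      K.homologyIsoSc' (i - 1) i (i + 1) (CochainComplex.prev ℤ i) (CochainComplex.next ℤ i)
    let f := (e ≪≫ S.moduleCatHomologyIso).toLinearEquiv
    let zc : LinearMap.ker S.g.hom := ⟨z, hz⟩
    have h0 : ∀ y : S.moduleCatLeftHomologyData.H, x • y = 0 := fun y => by
      rw [← f.apply_symm_apply y, ← map_smul, hJ i x hx, map_zero]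
    replace h0 : (Submodule.Quotient.mk (x • zc) :
        LinearMap.ker S.g.hom ⧸ LinearMap.range S.moduleCatToCycles) = 0 :=
      h0 (Submodule.Quotient.mk zc)
    rw [Submodule.Quotient.mk_eq_zero] at h0
    obtain ⟨w, hw⟩ := h0
    exact ⟨w, congrArg Subtype.val hw⟩
  have har : ∀ i : ℤ, ∃ k, ∀ n, k ≤ n →
      (J ^ n • ⊤ : Submodule A (K.X i)) ⊓ LinearMap.ker (K.d i (i + 1)).hom ≤
        J ^ (n - k) • LinearMap.ker (K.d i (i + 1)).hom := by
    intro i
    obtain ⟨k, hk⟩ := Ideal.exists_pow_inf_eq_pow_smul J (LinearMap.ker (K.d i (i + 1)).hom)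
    refine ⟨k, fun n hn => ?_⟩
    rw [hk n hn]
    exact Submodule.smul_mono le_rfl inf_le_right
  choose k hk using har
  set c0 := (Finset.Icc a b).sup k with hc0
  have hg : ∀ (j : ℕ) (i : ℤ), ∀ x ∈ (powSub K J (j + (c0 + 1))).P i,
      (K.d i (i + 1)).hom x = 0 →
      x ∈ ((powSub K J j).P (i - 1)).map (K.d (i - 1) i).hom := by
    intro j i x hx hdx
    by_cases hi : i ∈ Finset.Icc a b
    · have hki : k i ≤ c0 := Finset.le_sup (f := k) hi
      have h1 := hk i (j + (c0 + 1)) (by omega) ⟨hx, hdx⟩
      have h2 : J ^ (j + (c0 + 1) - k i) • LinearMap.ker (K.d i (i + 1)).hom ≤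
          ((powSub K J j).P (i - 1)).map (K.d (i - 1) i).hom := by
        refine le_trans (Submodule.smul_mono_left
          (Ideal.pow_le_pow_right (show j + 1 ≤ _ by omega))) ?_
        show _ ≤ ((J ^ j) • (⊤ : Submodule A (K.X (i - 1)))).map (K.d (i - 1) i).hom
        rw [Submodule.map_smul'', Submodule.map_top, pow_succ, Submodule.mul_smul]
        exact Submodule.smul_mono le_rfl (hbd i)
      exact h2 h1
    · have h0 : x = 0 := @Subsingleton.elim _
        (ModuleCat.subsingleton_of_isZero (hK i (by rw [Finset.mem_Icc] at hi; omega))) x 0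
      rw [h0]
      exact zero_mem _
  obtain ⟨n, hn⟩ := Q_map_eq_zero_of_ghosts (powSub K J)
    (fun j l hjl i => Submodule.smul_mono_left (Ideal.pow_le_pow_right hjl)) (c0 + 1) hg a b hK
  refine ⟨n, fun m _ => ?_⟩
  have hiso : ∀ l, IsIso (tensHom K J l) := by
    intro l
    have : ∀ q, IsIso ((tensHom K J l).f q) := fun q => by
      haveI := hproj q
      exact (ConcreteCategory.isIso_iff_bijective _).2 (mulMap_bijective (J ^ l) (K.X q))
    exact HomologicalComplex.Hom.isIso_of_components _
  have := hiso m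
  have := hiso (n + m)
  have hcomm : (NatTrans.mapHomologicalComplex
          ((curriedTensor (ModuleCat.{u} A)).map
            (ModuleCat.ofHom (Submodule.inclusion (p := J ^ (n + m)) (p' := J ^ m)
              (Ideal.pow_le_pow_right (Nat.le_add_left m n)))))
          (ComplexShape.up ℤ)).app K ≫ tensHom K J m =
      tensHom K J (n + m) ≫ SubCx.incl (fun i => Submodule.smul_mono_left
        (Ideal.pow_le_pow_right (Nat.le_add_left m n))) := by
    refine HomologicalComplex.hom_ext _ _ fun q =>
      ModuleCat.hom_ext (TensorProduct.ext' fun x y => Subtype.ext ?_)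
    rfl
  rw [← cancel_mono (DerivedCategory.Q.map (tensHom K J m)), ← Functor.map_comp, zero_comp,
    hcomm, Functor.map_comp, hn m, comp_zero]

end Groth.Agent.H23Ghost
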